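import Cfsg.Agent.CycZ.Core
import Cfsg.Agent.QT.Basic
import Cfsg.Agent.Char.Burnside
import Cfsg.Agent.S3559
import Cfsg.Agent.S3972

/-!
# Nonsolvable products of a cyclic group and a Z-group
-/

set_option autoImplicit false

namespace Cfsg.Lib.CycZ

open MulAction

variable {G : Type*} [Group G] [Finite G]

theorem isSolvable_of_odd_index (B : Subgroup G) [IsZGroup B] (h : ¬ 2 ∣ B.index) :
    Group.IsSolvable G := by
  obtain ⟨P, hP⟩ := Trans.exists_isSylowIn (p := 2) B
  have hP' := hP.trans (H := ⊤) le_top (by rwa [Subgroup.relIndex_top_right])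
  obtain ⟨Q, hQ⟩ := hP'.exists_sylow_eq
  refine Cor.isSolvable_of_isCyclic_sylow_two Q ?_
  rw [hQ]
  haveI := (Trans.isPGroup_subgroupOf hP.isPGroup B).isCyclic_of_isZGroup
  exact isCyclic_of_surjective _ (Subgroup.subgroupOfEquivOfLe hP.le).surjective

omit [Finite G] in
theorem trans_of_fact {A B : Subgroup G} (hAB : ∀ g : G, ∃ a ∈ A, ∃ b ∈ B, g = a * b)
    (x y : G ⧸ B) : ∃ a ∈ A, a • x = y := by
  have h : ∀ x : G ⧸ B, ∃ a ∈ A, a • ((1 : G) : G ⧸ B) = x := fun x => by
    obtain ⟨g, rfl⟩ := QuotientGroup.mk_surjective x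
    obtain ⟨a, ha, b, hb, rfl⟩ := hAB g
    refine ⟨a, ha, ?_⟩
    rw [Quotient.smul_mk, QuotientGroup.eq]
    simpa using hb
  obtain ⟨a, ha, rfl⟩ := h x
  obtain ⟨c, hc, rfl⟩ := h y
  exact ⟨c * a⁻¹, A.mul_mem hc (A.inv_mem ha), by rw [mul_smul, inv_smul_smul]⟩

theorem isSolvable_perm {X : Type*} [Finite X] (h : Nat.card X ≤ 4) :
    Group.IsSolvable (Equiv.Perm X) := by
  refine Cfsg.Lib.Char.isSolvable_of_card_dvd (p := 2) (q := 3) (a := 3) (b := 1)
    Nat.prime_two Nat.prime_three _ ?_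
  rw [Nat.card_perm]
  exact (Nat.factorial_dvd_factorial h).trans (by decide)

theorem good_of_coatom (hG : ¬ Group.IsSolvable G) {A B : Subgroup G} (hA : IsCyclic A)
    [IsZGroup B] (hAB : ∀ g : G, ∃ a ∈ A, ∃ b ∈ B, g = a * b) (hB : IsCoatom B) :
    Tr2 G (G ⧸ B) ∧ 4 < Nat.card (G ⧸ B) ∧ Good G (G ⧸ B) := by
  classical
  have htr := trans_of_fact hAB
  have hev : Even (Nat.card (G ⧸ B)) := by
    by_contra h
    exact hG (isSolvable_of_odd_index B fun h' => h (even_iff_two_dvd.2 h'))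
  have h4 : 4 < Nat.card (G ⧸ B) := by
    by_contra h
    haveI := isSolvable_perm (X := G ⧸ B) (by omega)
    haveI : Group.IsSolvable (toPermHom G (G ⧸ B)).ker := by
      rw [← Subgroup.normalCore_eq_ker]
      exact Group.isSolvable_of_isSolvable_injective
        (Subgroup.inclusion_injective B.normalCore_le)
    exact hG (Cor.isSolvable_of_normal_quotient (toPermHom G (G ⧸ B)).ker inferInstance
      (Group.isSolvable_of_isSolvable_injective
        (QuotientGroup.kerLift_injective (toPermHom G (G ⧸ B)))))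
  haveI : Nontrivial (G ⧸ B) := Finite.one_lt_card_iff_nontrivial.1 (by omega)
  have hprim : IsPreprimitive G (G ⧸ B) :=
    (isCoatom_stabilizer_iff_preprimitive G ((1 : G) : G ⧸ B)).1 (by rwa [stabilizer_quotient])
  set Y := (toPermHom G (G ⧸ B)).range
  let f : (G ⧸ B) →ₑ[(toPermHom G (G ⧸ B)).rangeRestrict] (G ⧸ B) := ⟨id, fun _ _ => rfl⟩
  have hprim' : IsPreprimitive Y (G ⧸ B) :=
    IsPreprimitive.of_surjective (f := f) Function.surjective_id
  set C := A.map (toPermHom G (G ⧸ B)).rangeRestrict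
  have hC : IsCyclic C :=
    isCyclic_of_surjective _ ((toPermHom G (G ⧸ B)).rangeRestrict.subgroupMap_surjective A)
  have hCtr : ∀ x y : G ⧸ B, ∃ a ∈ C, a • x = y := fun x y => by
    obtain ⟨b, hb, h⟩ := htr x y
    exact ⟨_, Subgroup.mem_map_of_mem _ hb, h⟩
  have h2 : IsMultiplyPretransitive Y (G ⧸ B) 2 := by
    by_cases hpp : IsPrimePow (Nat.card (G ⧸ B))
    · obtain ⟨p, m, hp, hm, hpm⟩ := (isPrimePow_nat_iff _).1 hpp
      haveI := Fintype.ofFinite (G ⧸ B)
      obtain ⟨g, hg⟩ := IsCyclic.exists_generator (α := C)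
      by_contra h2
      refine (Cfsg.Agent.S3972.result p m hp ?_ (by rw [← Nat.card_eq_fintype_card, hpm]) Y
        hprim'.toIsPretransitive h2 g ?_).1 hprim'
      · by_contra hm2
        obtain rfl : m = 1 := by omega
        rw [pow_one] at hpm
        rw [← hpm] at hev h4
        have := hp.even_iff.1 hev
        omega
      · rw [Subgroup.orderOf_coe, orderOf_eq_card_of_forall_mem_zpowers hg,
          card_eq_of_cyc hC hCtr ((1 : G) : G ⧸ B), hpm]
    · refine (Cfsg.Agent.S3559.result hprim'.toIsPretransitive (by omega) hpp C hC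
        ⟨⟨fun x y => ?_⟩, fun x => ?_⟩).resolve_left (not_not.2 hprim')
      · obtain ⟨a, ha, h⟩ := hCtr x y
        exact ⟨⟨a, ha⟩, h⟩
      · rw [eq_bot_iff]
        intro c hc
        exact Subtype.ext (eq_of_smul_eq_smul (α := G ⧸ B) fun w => by
          rw [triv_of_cyc hC hCtr c.2 hc, OneMemClass.coe_one, one_smul])
  have hT : Tr2 G (G ⧸ B) := fun a b c d h1 h3 => by
    obtain ⟨⟨_, g, rfl⟩, hg⟩ := is_two_pretransitive_iff.1 h2 h1 h3
    exact ⟨g, hg⟩
  have S : Setup G (G ⧸ B) A := by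
    refine ⟨hT, hev, hA, htr, fun x => ?_⟩
    obtain ⟨g, rfl⟩ := exists_smul_eq G ((1 : G) : G ⧸ B) x
    rw [stabilizer_smul_eq_stabilizer_map_conj, stabilizer_quotient]
    exact IsZGroup.of_surjective (MonoidHom.subgroupMap_surjective _ B)
  exact ⟨hT, h4, (core S).resolve_left (by omega)⟩

theorem exists_sylow_of_good {X Ω : Type*} [Group X] [MulAction X Ω] [Finite X] [Finite Ω]
    (hT : Tr2 X Ω) (hG : Good X Ω) (K : Subgroup X) [K.Normal]
    (hf : ∀ k ∈ K, (∀ w : Ω, k • w = w) → k = 1) (o : Ω) (htr : ∀ y : Ω, ∃ k ∈ K, k • o = y)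
    (hJ : K ⊓ stabilizer X o ≠ ⊥) : ∃ (p : ℕ) (P : Subgroup X), p.Prime ∧
      Trans.IsSylowIn p P K ∧ Subgroup.normalizer (P : Set X) = stabilizer X o := by
  obtain ⟨p, hp, hcard⟩ := hG.card
  haveI := Fact.mk hp
  set Ω' := SubMulAction.ofStabilizer X o
  have hc' : Nat.card Ω' = p := by
    have : Nat.card Ω' + 1 = _ := SubMulAction.nat_card_ofStabilizer_add_one_eq X o
    omega
  have hmem : ∀ x : Ω', (x : Ω) ≠ o := fun x => (SubMulAction.mem_ofStabilizer_iff X o).1 x.2
  haveI : IsPretransitive (stabilizer X o) Ω' := ⟨fun x y => by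
    obtain ⟨g, g1, g2⟩ := hT o x o y (hmem x).symm (hmem y).symm
    exact ⟨⟨g, g1⟩, Subtype.ext g2⟩⟩
  haveI : IsPreprimitive (stabilizer X o) Ω' := IsPreprimitive.of_prime_card (hc' ▸ hp)
  set N := K.subgroupOf (stabilizer X o) with hN
  have hNtr : IsPretransitive N Ω' := by
    apply IsQuasiPreprimitive.isPretransitive_of_normal
    intro h
    apply hJ
    rw [eq_bot_iff]
    rintro k ⟨k1, k2⟩
    refine hf k k1 fun w => ?_
    by_cases hw : w = o
    · rw [hw]; exact k2
    · have : (⟨w, (SubMulAction.mem_ofStabilizer_iff X o).2 hw⟩ : Ω') ∈ fixedPoints N Ω' := by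
        rw [h]; trivial
      exact congrArg Subtype.val (this ⟨⟨k, k2⟩, k1⟩)
  haveI : Nontrivial Ω' := Finite.one_lt_card_iff_nontrivial.1 (hc' ▸ hp.one_lt)
  obtain ⟨x, y, hxy⟩ := exists_pair_ne Ω'
  have hpN : p ∣ Nat.card N := by
    rw [← hc', ← index_stabilizer_of_transitive N x]
    exact Subgroup.index_dvd_card _
  have hlt : Nat.card N < p * p := by
    rw [← hc', ← Nat.card_prod]
    haveI := Fintype.ofFinite N
    haveI := Fintype.ofFinite (Ω' × Ω')
    rw [Nat.card_eq_fintype_card, Nat.card_eq_fintype_card]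
    refine Fintype.card_lt_of_injective_not_surjective (fun k : N => (k • x, k • y)) ?_ ?_
    · intro k l h
      have h1 : ((k : stabilizer X o) : X) • (x : Ω) = ((l : stabilizer X o) : X) • (x : Ω) :=
        congrArg Subtype.val (congrArg Prod.fst h)
      have h2 : ((k : stabilizer X o) : X) • (y : Ω) = ((l : stabilizer X o) : X) • (y : Ω) :=
        congrArg Subtype.val (congrArg Prod.snd h)
      have h3 := hf _ (K.mul_mem (K.inv_mem l.2) k.2) (hG.sharp _ o x y (hmem x).symm (hmem y)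
        (fun h => hxy (Subtype.ext h).symm)
        ((stabilizer X o).mul_mem ((stabilizer X o).inv_mem l.1.2) k.1.2)
        (by rw [mul_smul]; exact inv_smul_eq_iff.2 h1)
        (by rw [mul_smul]; exact inv_smul_eq_iff.2 h2))
      exact Subtype.ext (Subtype.ext (inv_mul_eq_one.1 h3).symm)
    · intro h
      obtain ⟨k, hk⟩ := h (x, x)
      exact hxy (MulAction.injective k ((congrArg Prod.fst hk).trans (congrArg Prod.snd hk).symm))
  obtain ⟨P0⟩ : Nonempty (Sylow p N) := inferInstance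
  have hP0 : p ∣ Nat.card P0 := P0.dvd_card_of_dvd_card hpN
  have hidx : (P0 : Subgroup N).index < p := by
    have h1 := (P0 : Subgroup N).card_mul_index
    have h2 : p ≤ Nat.card P0 := Nat.le_of_dvd Nat.card_pos hP0
    by_contra h
    have : p * p ≤ Nat.card P0 * (P0 : Subgroup N).index := Nat.mul_le_mul h2 (by omega)
    omega
  have hone : Nat.card (Sylow p N) = 1 := by
    have h1 := card_sylow_modEq_one p N
    have h2 := Nat.le_of_dvd (Nat.pos_of_ne_zero Subgroup.index_ne_zero_of_finite)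
      P0.card_dvd_index
    exact Nat.ModEq.eq_of_lt_of_lt h1 (by omega) hp.one_lt
  haveI : Subsingleton (Sylow p N) := (Nat.card_eq_one_iff_unique.1 hone).1
  haveI : (P0 : Subgroup N).Characteristic := P0.characteristic_of_subsingleton
  set P1 := (P0 : Subgroup N).map N.subtype
  have hP1 : P1.Normal := inferInstance
  have hs := (Trans.isSylowIn_map_subtype P0).map (stabilizer X o).subtype
  rw [show N.map (stabilizer X o).subtype = K ⊓ stabilizer X o from
    Subgroup.subgroupOf_map_subtype _ _] at hs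
  set P := P1.map (stabilizer X o).subtype
  have hs' : Trans.IsSylowIn p P K := by
    refine hs.trans inf_le_left ?_
    rw [Subgroup.inf_relIndex_left]
    haveI : IsPretransitive K Ω := ⟨fun x y => by
      obtain ⟨k, hk, rfl⟩ := htr x
      obtain ⟨l, hl, rfl⟩ := htr y
      exact ⟨⟨l * k⁻¹, K.mul_mem hl (K.inv_mem hk)⟩, by
        change (l * k⁻¹) • k • o = l • o
        rw [mul_smul, inv_smul_smul]⟩⟩
    have : (stabilizer X o).relIndex K = Nat.card Ω := index_stabilizer_of_transitive K o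
    rw [this, hcard, Nat.dvd_add_self_left, Nat.dvd_one]
    exact hp.one_lt.ne'
  refine ⟨p, P, hp, hs', le_antisymm (fun g hg => ?_) ?_⟩
  · by_contra hgo
    have hgo' : g • o ≠ o := hgo
    have hPo : ∀ z ∈ P, z • o = o := fun z hz => (hs.le hz).2
    have hPg : ∀ z ∈ P, z • g • o = g • o := fun z hz => by
      have := hPo _ ((Subgroup.mem_normalizer_iff''.1 hg z).1 hz)
      rwa [mul_smul, mul_smul, inv_smul_eq_iff] at this
    have h1 := hs.isPGroup.card_modEq_card_fixedPoints Ω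
    have h2 : Nat.card (fixedPoints P Ω) = 2 := by
      rw [Nat.card_eq_two_iff' (⟨o, fun z => hPo z z.2⟩ : fixedPoints P Ω)]
      refine ⟨⟨g • o, fun z => hPg z z.2⟩, fun h => hgo' (congrArg Subtype.val h), fun w hw => ?_⟩
      by_contra hw'
      have hb : P = ⊥ := by
        rw [eq_bot_iff]
        intro z hz
        exact hf z (hs'.le hz) (hG.sharp z o (g • o) w hgo'.symm (fun h => hw (Subtype.ext h))
          (fun h => hw' (Subtype.ext h)) (hPo z hz) (hPg z hz) (w.2 ⟨z, hz⟩))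
      have h3 : Nat.card P = Nat.card P0 := by
        rw [Subgroup.card_map_of_injective (Subgroup.subtype_injective _),
          Subgroup.card_map_of_injective (Subgroup.subtype_injective _)]
      rw [← h3, hb, Subgroup.card_bot, Nat.dvd_one] at hP0
      exact hp.one_lt.ne' hP0
    rw [h2, hcard] at h1
    have h3 : p + 1 ≡ 1 [MOD p] := by simp [Nat.ModEq]
    have h4 := (Nat.modEq_iff_dvd' (by norm_num : 1 ≤ 2)).1 (h3.symm.trans h1)
    exact hp.one_lt.ne' (Nat.dvd_one.1 h4)
  · have := Subgroup.le_normalizer_map (H := P1) (stabilizer X o).subtype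
    rwa [Subgroup.normalizer_eq_top, ← MonoidHom.range_eq_map, Subgroup.range_subtype] at this

omit [Finite G] in
theorem inf_le_normalCore {A B V : Subgroup G} (hA : IsCyclic A)
    (hAB : ∀ g : G, ∃ a ∈ A, ∃ b ∈ B, g = a * b) (hV : B ≤ V) {a : G} (ha : a ∈ A)
    (haV : a ∈ V) : a ∈ V.normalCore := by
  intro g
  obtain ⟨c, hc, b, hb, hg⟩ := hAB g⁻¹
  have : g * a * g⁻¹ = b⁻¹ * a * b := by
    rw [← inv_inv g, hg, inv_inv, mul_inv_rev]
    calc b⁻¹ * c⁻¹ * a * (c * b) = b⁻¹ * c⁻¹ * (a * c) * b := by group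
      _ = _ := by rw [comm_of_cyc hA ha hc]; group
  rw [this]
  exact V.mul_mem (V.mul_mem (V.inv_mem (hV hb)) haV) (hV hb)

omit [Finite G] in
theorem core_fact {A B V : Subgroup G} (hA : IsCyclic A)
    (hAB : ∀ g : G, ∃ a ∈ A, ∃ b ∈ B, g = a * b) (hV : B ≤ V) (k : V.normalCore) :
    ∃ a ∈ A.subgroupOf V.normalCore, ∃ b ∈ B.subgroupOf V.normalCore, k = a * b := by
  obtain ⟨a, ha, b, hb, h⟩ := hAB k
  have h1 : a ∈ V.normalCore := inf_le_normalCore hA hAB hV ha (by
    rw [← mul_inv_eq_iff_eq_mul.2 h]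
    exact V.mul_mem (V.normalCore_le k.2) (V.inv_mem (hV hb)))
  have h2 : b ∈ V.normalCore := by
    rw [← inv_mul_eq_iff_eq_mul.2 h]
    exact Subgroup.mul_mem _ (Subgroup.inv_mem _ h1) k.2
  exact ⟨⟨a, h1⟩, ha, ⟨b, h2⟩, hb, Subtype.ext h⟩

omit [Finite G] in
theorem core_not_solvable (hS : ∀ N : Subgroup G, N.Normal → Group.IsSolvable N → N = ⊥)
    {A B V : Subgroup G} (hA : IsCyclic A) (hAB : ∀ g : G, ∃ a ∈ A, ∃ b ∈ B, g = a * b)
    (hV : B < V) : ¬ Group.IsSolvable V.normalCore := by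
  intro h
  have hb := hS _ inferInstance h
  obtain ⟨v, v1, v2⟩ := SetLike.exists_of_lt hV
  obtain ⟨a, ha, b, hb', rfl⟩ := hAB v
  have := inf_le_normalCore hA hAB hV.le ha ((V.mul_mem_cancel_right (hV.le hb')).1 v1)
  rw [hb, Subgroup.mem_bot] at this
  exact v2 (by rwa [this, one_mul])

omit [Finite G] in
theorem isZGroup_subgroupOf (B K : Subgroup G) [IsZGroup B] : IsZGroup (B.subgroupOf K) :=
  IsZGroup.of_injective (f := (K.subtype.comp (Subgroup.subtype _)).codRestrict B fun x => x.2)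
    (fun _ _ h => Subtype.ext (Subtype.ext (Subtype.ext_iff.1 h :)))

theorem exists_inv (hS : ∀ N : Subgroup G, N.Normal → Group.IsSolvable N → N = ⊥)
    {A B V : Subgroup G} (hA : IsCyclic A) [IsZGroup B]
    (hAB : ∀ g : G, ∃ a ∈ A, ∃ b ∈ B, g = a * b) (hV : B < V) :
    ∃ a ∈ A, a ∈ V ∧ a * a = 1 ∧ a ≠ 1 := by
  haveI := isZGroup_subgroupOf B V.normalCore
  have h1 : 2 ∣ (B.subgroupOf V.normalCore).index := by
    by_contra h
    exact core_not_solvable hS hA hAB hV (isSolvable_of_odd_index _ h)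
  have h2 := h1.trans (card_dvd_of_trans (A.subgroupOf V.normalCore)
    (((1 : V.normalCore)) : V.normalCore ⧸ B.subgroupOf V.normalCore)
    (trans_of_fact (core_fact hA hAB hV.le) _))
  obtain ⟨a, ha⟩ := exists_prime_orderOf_dvd_card' 2 h2
  have h3 : a * a = 1 := by rw [← pow_two, ← ha, pow_orderOf_eq_one]
  refine ⟨a, a.2, V.normalCore_le a.1.2, congrArg (fun x => ((x : V.normalCore) : G))
    (congrArg Subtype.val h3), fun h => ?_⟩
  have : a = 1 := Subtype.ext (Subtype.ext h)
  rw [this, orderOf_one] at ha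
  exact absurd ha (by decide)

theorem isCoatom_of_fact (hG : ¬ Group.IsSolvable G)
    (hS : ∀ N : Subgroup G, N.Normal → Group.IsSolvable N → N = ⊥)
    {A B : Subgroup G} (hA : IsCyclic A) [IsZGroup B]
    (hAB : ∀ g : G, ∃ a ∈ A, ∃ b ∈ B, g = a * b) : IsCoatom B := by
  have hBt : B ≠ ⊤ := by
    rintro rfl
    exact hG (Group.isSolvable_of_surjective (f := (⊤ : Subgroup G).subtype)
      fun g => ⟨⟨g, trivial⟩, rfl⟩)
  obtain ⟨U, hU, -⟩ := (lt_top_iff_ne_top.2 hBt).exists_covby_le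
  by_cases hUt : U = ⊤
  · rwa [hUt, covBy_top_iff] at hU
  exfalso
  set K := U.normalCore with hK
  have hKs : ¬ Group.IsSolvable K := core_not_solvable hS hA hAB hU.lt
  have hUs : ¬ Group.IsSolvable U := fun h =>
    hKs (Group.isSolvable_of_isSolvable_injective (Subgroup.inclusion_injective U.normalCore_le))
  haveI := isZGroup_subgroupOf B U
  have hA' : IsCyclic (A.subgroupOf U) :=
    isCyclic_of_injective ((U.subtype.comp (Subgroup.subtype _)).codRestrict A fun x => x.2)
      (fun _ _ h => Subtype.ext (Subtype.ext (Subtype.ext_iff.1 h :)))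
  have hAB' : ∀ g : U, ∃ a ∈ A.subgroupOf U, ∃ b ∈ B.subgroupOf U, g = a * b := fun g => by
    obtain ⟨a, ha, b, hb, h⟩ := hAB g
    refine ⟨⟨a, ?_⟩, ha, ⟨b, hU.le hb⟩, hb, Subtype.ext h⟩
    rw [← mul_inv_eq_iff_eq_mul.2 h]
    exact U.mul_mem g.2 (U.inv_mem (hU.le hb))
  have hco : IsCoatom (B.subgroupOf U) := by
    refine ⟨fun h => hU.lt.not_ge (Subgroup.subgroupOf_eq_top.1 h), fun H hH => ?_⟩
    have h1 : B < H.map U.subtype := by
      have := Subgroup.map_lt_map_iff_of_injective (f := U.subtype) U.subtype_injective |>.2 hH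
      rwa [Subgroup.subgroupOf_map_subtype, inf_eq_left.2 hU.le] at this
    have h2 := (hU.eq_or_eq h1.le (Subgroup.map_subtype_le H)).resolve_left h1.ne'
    apply Subgroup.map_injective U.subtype_injective
    rw [h2, ← MonoidHom.range_eq_map, Subgroup.range_subtype]
  obtain ⟨hT, -, hGood⟩ := good_of_coatom hUs hA' hAB' hco
  obtain ⟨p, P, hp, hP, hN⟩ := exists_sylow_of_good hT hGood (K.subgroupOf U) (fun k hk hw => by
      set N := (K.subgroupOf U ⊓ (B.subgroupOf U).normalCore).map U.subtype with hN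
      have hNK : N ≤ K := by rintro _ ⟨x, hx, rfl⟩; exact hx.1
      have hsub : N.IsSubnormal := by
        refine .step N K hNK (Subgroup.Normal.isSubnormal inferInstance) ⟨?_⟩
        rintro ⟨_, hn⟩ ⟨x, hx, rfl⟩ g
        exact ⟨(⟨g, U.normalCore_le g.2⟩ : U) * x * (⟨g, U.normalCore_le g.2⟩ : U)⁻¹,
          Subgroup.Normal.conj_mem inferInstance x hx _, rfl⟩
      have hsol : Group.IsSolvable N :=
        Group.isSolvable_of_isSolvable_injective (Subgroup.inclusion_injective (K := B) (by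
          rintro _ ⟨x, hx, rfl⟩; exact (B.subgroupOf U).normalCore_le hx.2))
      have h1 := QT.le_rad_of_isSubnormal hsub hsol
      rw [hS _ inferInstance (QT.rad_solv G)] at h1
      have h2 : k ∈ (B.subgroupOf U).normalCore := by
        rw [Subgroup.normalCore_eq_ker]
        exact Equiv.ext hw
      exact Subtype.ext (h1 ⟨k, ⟨hk, h2⟩, rfl⟩))
    ((1 : U) : U ⧸ B.subgroupOf U) (fun y => by
      obtain ⟨a, ha, h⟩ := trans_of_fact hAB' ((1 : U) : U ⧸ B.subgroupOf U) y
      exact ⟨a, inf_le_normalCore hA hAB hU.le ha a.2, h⟩)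
    (fun h => hKs (by
      have hKA : K ≤ A := fun k hk => by
        obtain ⟨a, ha, b, hb, h'⟩ := core_fact hA hAB hU.le ⟨k, hk⟩
        have hb1 : (⟨b, hU.le hb⟩ : U) ∈ K.subgroupOf U ⊓
            stabilizer U ((1 : U) : U ⧸ B.subgroupOf U) := by
          rw [stabilizer_quotient]; exact ⟨b.2, hb⟩
        rw [h, Subgroup.mem_bot] at hb1
        have hb2 : (b : G) = 1 := congrArg Subtype.val hb1
        have : k = a * b := congrArg Subtype.val h'
        rw [this, hb2, mul_one]; exact ha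
      letI := hA.commGroup
      exact Group.isSolvable_of_isSolvable_injective (Subgroup.inclusion_injective hKA)))
  haveI := Fact.mk hp
  rw [stabilizer_quotient] at hN
  have hP' := hP.map U.subtype
  rw [Subgroup.subgroupOf_map_subtype, inf_eq_left.2 U.normalCore_le] at hP'
  set V := Subgroup.normalizer ((P.map U.subtype : Subgroup G) : Set G)
  have hBV : B ≤ V := by
    have := Subgroup.le_normalizer_map (H := P) U.subtype
    rwa [hN, Subgroup.subgroupOf_map_subtype, inf_eq_left.2 hU.le] at this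
  have hVU : ∀ g ∈ V, g ∈ U → g ∈ B := fun g g1 g2 => by
    have : (⟨g, g2⟩ : U) ∈ Subgroup.normalizer (P : Set U) := by
      rw [Subgroup.mem_normalizer_iff]
      intro x
      rw [← Subgroup.mem_map_iff_mem U.subtype_injective,
        ← Subgroup.mem_map_iff_mem (x := _ * _) U.subtype_injective]
      exact Subgroup.mem_normalizer_iff.1 g1 x
    rwa [hN] at this
  have hlt : B < V := lt_of_le_of_ne hBV fun h => hUt (by
    rw [eq_top_iff]
    intro g _
    obtain ⟨k, hk, n, hn, rfl⟩ := hP'.frattini (g := g)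
      (by rw [Subgroup.normalizer_eq_top]; trivial)
    exact U.mul_mem (U.normalCore_le hk) (hU.le (h ▸ hn)))
  obtain ⟨a, a1, a2, a3, a4⟩ := exists_inv hS hA hAB hlt
  obtain ⟨c, c1, c2, c3, c4⟩ := exists_inv hS hA hAB hU.lt
  have hac : a = c := congrArg Subtype.val (inv_eq_of_isCyclic (Q := A) (s := ⟨a, a1⟩)
    (t := ⟨c, c1⟩) (Subtype.ext a3) (Subtype.ext c3) (fun h => a4 (congrArg Subtype.val h))
    (fun h => c4 (congrArg Subtype.val h)))
  have := inf_le_normalCore hA hAB le_rfl a1 (hVU a a2 (hac ▸ c2))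
  rw [hS B.normalCore inferInstance (Group.isSolvable_of_isSolvable_injective
    (Subgroup.inclusion_injective B.normalCore_le))] at this
  exact a4 this

end Cfsg.Lib.CycZ
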